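import Groth.Agent.FreeSecLib.Main
import Groth.Agent.ProjAffLib.Basic
import Groth.Agent.RpushLib.Main
import Groth.Agent.AmpleEmb.RelVanish

/-!
# Vanishing of higher direct images to a product
-/

set_option autoImplicit false
set_option backward.isDefEq.respectTransparency false
set_option linter.style.haveILetI false

universe u

open CategoryTheory CategoryTheory.Limits AlgebraicGeometry TopologicalSpace Opposite
open Groth.Agent Groth.Agent.DCohLib

noncomputable section

namespace Groth.Agent.FMVanLib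

theorem isPullback_inf {A B C W : Scheme.{u}} {g : W ⟶ A} {iY : W ⟶ B} {iX : A ⟶ C} {f : B ⟶ C}
    (H : IsPullback g iY iX f) (UX : A.Opens) (UT : B.Opens) {UY : W.Opens} (hUY : UY = g ⁻¹ᵁ UX ⊓ iY ⁻¹ᵁ UT) :
    IsPullback (g.resLE UX UY (hUY.le.trans inf_le_left)) (iY.resLE UT UY (hUY.le.trans inf_le_right))
      (UX.ι ≫ iX) (UT.ι ≫ f) :=
  (Scheme.Hom.isPullback_resLE H (US := ⊤) le_top le_top hUY).of_iso (Iso.refl _) (Iso.refl _) (Iso.refl _)
    C.topIso (by simp) (by simp) (by simp) (by simp)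

theorem isAffineOpen_inf_preimage {S A B : Scheme.{u}} [IsAffine S] (sA : A ⟶ S) (sB : B ⟶ S) {UA : A.Opens}
    (hA : IsAffineOpen UA) {UB : B.Opens} (hB : IsAffineOpen UB) :
    IsAffineOpen (pullback.fst sA sB ⁻¹ᵁ UA ⊓ pullback.snd sA sB ⁻¹ᵁ UB) := by
  haveI : IsAffine (UA : Scheme.{u}) := hA
  haveI : IsAffine (UB : Scheme.{u}) := hB
  exact IsAffine.of_isIso (isPullback_inf (IsPullback.of_hasPullback sA sB) UA UB rfl).isoPullback.hom

theorem isZero_of_cover {Z : Scheme.{u}} {M : Z.Modules} (hM : Coh.IsQCoh M)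
    (h : ∀ z : Z, ∃ V : Z.Opens, IsAffineOpen V ∧ z ∈ V ∧ Subsingleton Γ(M, V)) : IsZero M := by
  refine SerreClosLib.isZero_of_sections fun V s => SerreClosLib.eq_zero_of_germ fun x hx => ?_
  obtain ⟨U, hU, hxU, hs⟩ := h x
  exact SerreClosLib.germ_eq_zero_of_sections hM hU (fun t => Subsingleton.elim _ _) x hx hxU s

variable {S X Y T : Scheme.{u}} [IsAffine S] (sX : X ⟶ S) (sY : Y ⟶ S) (sT : T ⟶ S)

/-- Vanishing over a product of affine opens. -/
theorem subsingleton_HH_box [QuasiCompact sX] [QuasiSeparated sX] [HasInjectiveResolutions (pullback sX sY).Modules]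
    (K : (pullback sX sY).Modules) (hKq : Coh.IsQCoh K)
    (hKac : ∀ (F : X.Modules), Coh.IsQCoh F → ∀ q : ℕ, 0 < q →
      IsZero ((Coh.Rpush (pullback.snd sX sY) q).obj
        (CohB1.tensorMod ((Scheme.Modules.pullback (pullback.fst sX sY)).obj F) K)))
    (F : (pullback sT sX).Modules) (hF : Coh.IsQCoh F) {T0 : T.Opens} (hT : IsAffineOpen T0) {Y0 : Y.Opens}
    (hY : IsAffineOpen Y0) (O : (pullback (pullback.snd sT sX) (pullback.fst sX sY)).Opens)
    (hO : O = pullback.fst (pullback.snd sT sX) (pullback.fst sX sY) ⁻¹ᵁ (pullback.fst sT sX ⁻¹ᵁ T0) ⊓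
      pullback.snd (pullback.snd sT sX) (pullback.fst sX sY) ⁻¹ᵁ (pullback.snd sX sY ⁻¹ᵁ Y0))
    (n : ℕ) (hn : 0 < n) :
    Subsingleton (Coh.HH (O : Scheme.{u}) ((tmod
      ((Scheme.Modules.pullback (pullback.fst (pullback.snd sT sX) (pullback.fst sX sY))).obj F)
      ((Scheme.Modules.pullback (pullback.snd (pullback.snd sT sX) (pullback.fst sX sY))).obj K)).restrict O.ι) n) := by
  haveI := hKq
  haveI := hF
  haveI : IsAffine (T0 : Scheme.{u}) := hT
  let a := pullback.snd sT sX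
  let b := pullback.fst sX sY
  let w₁ := pullback.fst a b
  let w₂ := pullback.snd a b
  let P0 := pullback.fst sT sX ⁻¹ᵁ T0
  let U' := pullback.snd sX sY ⁻¹ᵁ Y0
  let u := w₁.resLE P0 O (hO.le.trans inf_le_left)
  let h := w₂.resLE U' O (hO.le.trans inf_le_right)
  have sq : IsPullback u h (P0.ι ≫ a) (U'.ι ≫ b) := isPullback_inf (IsPullback.of_hasPullback a b) P0 U' hO
  haveI : IsAffineHom (P0.ι ≫ a) := by
    have s0 : IsPullback (pullback.fst sT sX ∣_ T0) (P0.ι ≫ a) (T0.ι ≫ sT) sX :=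
      (isPullback_morphismRestrict (pullback.fst sT sX) T0).paste_vert (IsPullback.of_hasPullback sT sX)
    haveI : IsAffineHom (T0.ι ≫ sT) := isAffineHom_of_isAffine _
    exact MorphismProperty.of_isPullback (P := @IsAffineHom) s0 inferInstance
  haveI : IsAffineHom h := MorphismProperty.of_isPullback (P := @IsAffineHom) sq inferInstance
  let F0 := (Scheme.Modules.pullback P0.ι).obj F
  haveI : Coh.IsQCoh F0 := PullbackMod.isQCoh_pullback P0.ι F
  let F' := (Scheme.Modules.pushforward (P0.ι ≫ a)).obj F0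
  haveI : Coh.IsQCoh F' := QCohLib.isQCoh_pushforward F0 (P0.ι ≫ a)
  haveI := DCohMore.isIso_bc0_affine (P0.ι ≫ a) h u sq F0
  let A := (Scheme.Modules.pullback u).obj F0
  haveI : Coh.IsQCoh A := PullbackMod.isQCoh_pullback u F0
  let K' := (Scheme.Modules.pullback U'.ι).obj K
  haveI : Coh.IsQCoh K' := PullbackMod.isQCoh_pullback U'.ι K
  haveI : Coh.IsQCoh ((Scheme.Modules.pullback h).obj K') := PullbackMod.isQCoh_pullback h K'
  haveI : Coh.IsQCoh (tmod A ((Scheme.Modules.pullback h).obj K')) := BCLib.isQCoh_tmod _ _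
  haveI := ProjAffLib.isIso_projMap h A K'
  let Q := tmod ((Scheme.Modules.pullback b).obj F') K
  haveI : Coh.IsQCoh ((Scheme.Modules.pullback b).obj F') := PullbackMod.isQCoh_pullback b F'
  haveI : Coh.IsQCoh Q := BCLib.isQCoh_tmod _ _
  -- the pushforward to the affine piece of `X × Y`
  let eL : Q.restrict U'.ι ≅ (Scheme.Modules.pushforward h).obj (tmod A ((Scheme.Modules.pullback h).obj K')) :=
    (Scheme.Modules.restrictFunctorIsoPullback U'.ι).app Q ≪≫
      ((pullTensorBiIsoSch U'.ι).app ((Scheme.Modules.pullback b).obj F')).app K ≪≫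
      ((DCoh.tensorBi (X := (U' : Scheme.{u}))).mapIso ((Scheme.Modules.pullbackComp U'.ι b).app F' ≪≫
        asIso (CohBC.bc0 (P0.ι ≫ a) (U'.ι ≫ b) h u sq.w F0))).app K' ≪≫
      asIso (projMap h A K')
  let G := tmod ((Scheme.Modules.pullback w₁).obj F) ((Scheme.Modules.pullback w₂).obj K)
  have hu : O.ι ≫ w₁ = u ≫ P0.ι := (Scheme.Hom.resLE_comp_ι _ _).symm
  have hh : O.ι ≫ w₂ = h ≫ U'.ι := (Scheme.Hom.resLE_comp_ι _ _).symm
  let eR : tmod A ((Scheme.Modules.pullback h).obj K') ≅ G.restrict O.ι :=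
    ((DCoh.tensorBi (X := (O : Scheme.{u}))).mapIso ((Scheme.Modules.pullbackComp u P0.ι).app F ≪≫
      (Scheme.Modules.pullbackCongr hu.symm).app F ≪≫ ((Scheme.Modules.pullbackComp O.ι w₁).app F).symm)).app _ ≪≫
    ((DCoh.tensorBi (X := (O : Scheme.{u}))).obj _).mapIso ((Scheme.Modules.pullbackComp h U'.ι).app K ≪≫
      (Scheme.Modules.pullbackCongr hh.symm).app K ≪≫ ((Scheme.Modules.pullbackComp O.ι w₂).app K).symm) ≪≫
    (((pullTensorBiIsoSch O.ι).app ((Scheme.Modules.pullback w₁).obj F)).app ((Scheme.Modules.pullback w₂).obj K)).symm ≪≫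
    ((Scheme.Modules.restrictFunctorIsoPullback O.ι).app G).symm
  haveI : QuasiCompact (pullback.snd sX sY) := MorphismProperty.pullback_snd _ _ inferInstance
  haveI : QuasiSeparated (pullback.snd sX sY) := MorphismProperty.pullback_snd _ _ inferInstance
  have h0 := AmpleEmb.subsingleton_HH_of_isZero_rpush (pullback.snd sX sY) Q hY n (hKac F' inferInstance n hn)
  exact CurveLib.subsingleton_HH_iso eR n
    ((AmpleVanLib.subsingleton_HH_push_iff h _ n).1 (CurveLib.subsingleton_HH_iso eL n h0))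

theorem isZero_rpush [QuasiCompact sX] [QuasiSeparated sX] [HasInjectiveResolutions (pullback sX sY).Modules]
    (K : (pullback sX sY).Modules) (hKq : Coh.IsQCoh K)
    (hKac : ∀ (F : X.Modules), Coh.IsQCoh F → ∀ q : ℕ, 0 < q →
      IsZero ((Coh.Rpush (pullback.snd sX sY) q).obj
        (CohB1.tensorMod ((Scheme.Modules.pullback (pullback.fst sX sY)).obj F) K)))
    [HasInjectiveResolutions (pullback (pullback.snd sT sX) (pullback.fst sX sY)).Modules]
    (pr : pullback (pullback.snd sT sX) (pullback.fst sX sY) ⟶ pullback sT sY)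
    (h₁ : pr ≫ pullback.fst sT sY = pullback.fst _ _ ≫ pullback.fst sT sX)
    (h₂ : pr ≫ pullback.snd sT sY = pullback.snd _ _ ≫ pullback.snd sX sY)
    (F : (pullback sT sX).Modules) (hF : Coh.IsQCoh F) (n : ℕ) (hn : 0 < n) :
    IsZero ((Coh.Rpush pr n).obj (CohB1.tensorMod
      ((Scheme.Modules.pullback (pullback.fst (pullback.snd sT sX) (pullback.fst sX sY))).obj F)
      ((Scheme.Modules.pullback (pullback.snd (pullback.snd sT sX) (pullback.fst sX sY))).obj K))) := by
  have sqW : IsPullback pr (pullback.snd (pullback.snd sT sX) (pullback.fst sX sY))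
      (pullback.snd sT sY) (pullback.snd sX sY) := by
    refine IsPullback.of_right ?_ h₂ (IsPullback.of_hasPullback sT sY)
    rw [h₁, ← (IsPullback.of_hasPullback sX sY).w]
    exact ((IsPullback.of_hasPullback (pullback.snd sT sX) (pullback.fst sX sY)).paste_horiz
      (IsPullback.of_hasPullback sT sX))
  haveI : QuasiCompact pr := MorphismProperty.of_isPullback (P := @QuasiCompact) sqW.flip
    (MorphismProperty.pullback_snd _ _ inferInstance)
  haveI : QuasiSeparated pr := MorphismProperty.of_isPullback (P := @QuasiSeparated) sqW.flip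
    (MorphismProperty.pullback_snd _ _ inferInstance)
  haveI := hKq
  haveI := hF
  haveI := PullbackMod.isQCoh_pullback (pullback.fst (pullback.snd sT sX) (pullback.fst sX sY)) F
  haveI := PullbackMod.isQCoh_pullback (pullback.snd (pullback.snd sT sX) (pullback.fst sX sY)) K
  let G := tmod ((Scheme.Modules.pullback (pullback.fst (pullback.snd sT sX) (pullback.fst sX sY))).obj F)
    ((Scheme.Modules.pullback (pullback.snd (pullback.snd sT sX) (pullback.fst sX sY))).obj K)
  haveI : Coh.IsQCoh G := BCLib.isQCoh_tmod _ _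
  refine isZero_of_cover (RpushLib.isQCoh_rpush (M := G) pr n) fun z => ?_
  obtain ⟨_, ⟨T0 : T.Opens, hT, rfl⟩, hzT, -⟩ :=
    T.isBasis_affineOpens.exists_subset_of_mem_open (a := pullback.fst sT sY z) (Set.mem_univ _) isOpen_univ
  obtain ⟨_, ⟨Y0 : Y.Opens, hY, rfl⟩, hzY, -⟩ :=
    Y.isBasis_affineOpens.exists_subset_of_mem_open (a := pullback.snd sT sY z) (Set.mem_univ _) isOpen_univ
  let V : (pullback sT sY).Opens := pullback.fst sT sY ⁻¹ᵁ T0 ⊓ pullback.snd sT sY ⁻¹ᵁ Y0
  have hV : IsAffineOpen V := isAffineOpen_inf_preimage sT sY hT hY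
  refine ⟨V, hV, ⟨hzT, hzY⟩, ?_⟩
  obtain ⟨E, -⟩ := RpushLib.exists_sections_equiv (M := G) pr n hV
  haveI := subsingleton_HH_box sX sY sT K hKq hKac F hF hT hY (pr ⁻¹ᵁ V) (by
    show pr ⁻¹ᵁ (pullback.fst sT sY ⁻¹ᵁ T0) ⊓ pr ⁻¹ᵁ (pullback.snd sT sY ⁻¹ᵁ Y0) = _
    rw [← Scheme.Hom.comp_preimage, ← Scheme.Hom.comp_preimage, h₁, h₂, Scheme.Hom.comp_preimage,
      Scheme.Hom.comp_preimage]) n hn
  exact E.toEquiv.subsingleton

end Groth.Agent.FMVanLib
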